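import Groth.Agent.AlgEquivCurveLib.Mul
import Groth.Agent.EllLawLib.Point
import Groth.Agent.EllLawLib.Field
import Groth.Agent.AlgEquivLib.Euler

/-!
# Degree zero classes on a curve are algebraically equivalent to zero
-/

set_option autoImplicit false
set_option linter.style.haveILetI false
set_option linter.unusedSectionVars false
set_option maxRecDepth 8000
universe u

open CategoryTheory CategoryTheory.Limits AlgebraicGeometry TopologicalSpace Opposite

noncomputable section

namespace AlgEquivCurveLib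

open CubeConsLib EllLawLib AmpleLib

variable {k : Type u} [Field k] {X : Scheme.{u}} [X.Over (Spec (CommRingCat.of k))]
  [IsProper (X ↘ Spec (CommRingCat.of k))] [Smooth (X ↘ Spec (CommRingCat.of k))]
  [GeometricallyConnected (X ↘ Spec (CommRingCat.of k))] (hdim : topologicalKrullDim ↥X = 1)

include hdim in
theorem isEffCartier_pt (x : Spec (CommRingCat.of k) ⟶ X) (hx : x ≫ (X ↘ Spec (CommRingCat.of k)) = 𝟙 _) :
    BlowUp.IsEffCartierIdeal x.ker :=
  RelDualLib.isEffCartier_section _ (fun s => (EllLawLib.dim_fiber_spec (f := X ↘ Spec (CommRingCat.of k)) s).trans hdim) x hx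

include hdim in
/-- The difference of two points moves along the curve. -/
theorem ae_points [ConnectedSpace ↥X] (x o : Spec (CommRingCat.of k) ⟶ X)
    (hx : x ≫ (X ↘ Spec (CommRingCat.of k)) = 𝟙 _) (ho : o ≫ (X ↘ Spec (CommRingCat.of k)) = 𝟙 _)
    {b : IsoCls X} (hb : idCls x.ker * b = 1) : AE k X (idCls o.ker * b) := by
  obtain ⟨f, hf⟩ : ∃ f : X ⟶ Spec (CommRingCat.of k), f = X ↘ Spec (CommRingCat.of k) := ⟨_, rfl⟩
  haveI : IsProper f := hf ▸ inferInstance
  haveI : Smooth f := hf ▸ inferInstance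
  haveI : GeometricallyConnected f := hf ▸ inferInstance
  subst hf
  let a := pullback.fst (X ↘ Spec (CommRingCat.of k)) (X ↘ Spec (CommRingCat.of k))
  let π := pullback.snd (X ↘ Spec (CommRingCat.of k)) (X ↘ Spec (CommRingCat.of k))
  let Δ := pullback.diagonal (X ↘ Spec (CommRingCat.of k))
  haveI : IsClosedImmersion Δ := inferInstance
  haveI : IsProper π := MorphismProperty.pullback_snd (P := @IsProper) _ _ inferInstance
  haveI : Smooth π := MorphismProperty.pullback_snd (P := @Smooth) _ _ inferInstance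
  haveI : GeometricallyConnected π := MorphismProperty.pullback_snd (P := @GeometricallyConnected) _ _ inferInstance
  have hΔ : BlowUp.IsEffCartierIdeal Δ.ker := RelDualLib.isEffCartier_section π
    (fun t => (FibDimLib.topologicalKrullDim_fiber_baseChange (IsPullback.of_hasPullback _ _) t).trans
      ((EllLawLib.dim_fiber_spec (f := X ↘ Spec (CommRingCat.of k)) _).trans hdim)) Δ (pullback.diagonal_snd _)
  obtain ⟨N, hN, hΔN⟩ := exists_inv_rep (IntMultLib.isInvertible_idealMod _ hΔ)
  have hoE := isEffCartier_pt hdim o ho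
  have key : ∀ (w : Spec (CommRingCat.of k) ⟶ X) (hw : w ≫ (X ↘ Spec (CommRingCat.of k)) = 𝟙 _),
      pull (Pic13.sliceAt k X _ w hw) (idCls Δ.ker) = idCls w.ker := by
    intro w hw
    haveI : IsClosedImmersion w := EllLawLib.isClosedImmersion_sec _ w hw
    have hwa : Pic13.sliceAt k X _ w hw ≫ a = 𝟙 X := pullback.lift_fst _ _ _
    have hwp : Pic13.sliceAt k X _ w hw ≫ π = (X ↘ Spec (CommRingCat.of k)) ≫ w := pullback.lift_snd _ _ _
    have h1 : IsPullback (Pic13.sliceAt k X _ w hw) (X ↘ Spec (CommRingCat.of k)) π w := by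
      refine IsPullback.of_right ?_ hwp (IsPullback.of_hasPullback (X ↘ Spec (CommRingCat.of k)) _)
      rw [show Pic13.sliceAt k X _ w hw ≫ pullback.fst (X ↘ Spec (CommRingCat.of k)) (X ↘ Spec (CommRingCat.of k))
        = 𝟙 X from hwa, hw]
      exact IsPullback.of_horiz_isIso ⟨by simp⟩
    have h2 : IsPullback w w Δ (Pic13.sliceAt k X _ w hw) := by
      refine IsPullback.of_bot ?_ ?_ h1
      · rw [hw, show Δ ≫ π = 𝟙 X from pullback.diagonal_snd _]
        exact IsPullback.of_vert_isIso ⟨by simp⟩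
      · apply pullback.hom_ext
        · rw [Category.assoc, Category.assoc, show Δ ≫ pullback.fst _ _ = 𝟙 X from pullback.diagonal_fst _]
          erw [hwa]
        · rw [Category.assoc, Category.assoc, show Δ ≫ pullback.snd _ _ = 𝟙 X from pullback.diagonal_snd _]
          erw [hwp, reassoc_of% hw, Category.comp_id]
    have hc := SecDivLib.comap_ker_of_isPullback h2
    exact (pull_idCls _ hΔ (hc ▸ isEffCartier_pt hdim w hw)).trans (congrArg idCls hc)
  have hs : ∀ (w : Spec (CommRingCat.of k) ⟶ X) (hw : w ≫ (X ↘ Spec (CommRingCat.of k)) = 𝟙 _),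
      pull (Pic13.sliceAt k X _ w hw) (pull a (idCls o.ker) * CubeConsLib.cl N) * idCls w.ker = idCls o.ker := by
    intro w hw
    rw [← key w hw, map_mul, pull_comp, mul_assoc, ← map_mul, mul_comm (CubeConsLib.cl N),
      show idCls Δ.ker * CubeConsLib.cl N = 1 from hΔN, map_one, mul_one,
      show Pic13.sliceAt k X _ w hw ≫ a = 𝟙 X from pullback.lift_fst _ _ _]
    exact congrArg CubeConsLib.cl rfl |>.trans (cl_eq_iff.2 ⟨(Scheme.Modules.pullbackId X).app _⟩)
  refine ⟨X, X ↘ Spec (CommRingCat.of k), inferInstance, inferInstance, inferInstance,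
    CohB1.tensorMod ((Scheme.Modules.pullback a).obj (ClSub.idealMod o.ker)) N,
    HilbPolyLib.isInvertible_tensor (AmpleDevLib.isInvertible_pb _ (IntMultLib.isInvertible_idealMod _ hoE)) hN,
    x, o, hx, ho, ?_, ?_⟩
  · refine ((isUnit_idCls (isEffCartier_pt hdim x hx)).mul_left_injective ?_)
    refine (hs x hx).trans ?_
    show _ = idCls o.ker * b * idCls x.ker
    rw [mul_assoc, mul_comm b, hb, mul_one]
  · exact (isUnit_idCls hoE).mul_left_injective ((hs o ho).trans (one_mul _).symm)

variable [IsAlgClosed k]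

include hdim in
/-- Twisting down by a closed point keeps a section for a suitable point. -/
theorem exists_step {L : X.Modules} (hL : PicF.IsInvertible L) {n : ℕ} (hd : Curv2.deg k X L 1 = (n : ℤ) + 1)
    (h0 : 1 ≤ Module.finrank k (Coh.HH X L 0)) :
    ∃ (x : Spec (CommRingCat.of k) ⟶ X) (_ : x ≫ (X ↘ Spec (CommRingCat.of k)) = 𝟙 _) (L' : X.Modules),
      PicF.IsInvertible L' ∧ Curv2.deg k X L' 1 = n ∧ 1 ≤ Module.finrank k (Coh.HH X L' 0) ∧
        CubeConsLib.cl L' = CubeConsLib.cl L * idCls x.ker := by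
  haveI := FibVALib.geometricallyIntegral_of_geometricallyConnected (X ↘ Spec (CommRingCat.of k))
  haveI : IsIntegral X := GeometricallyIntegral.isIntegral_of_subsingleton (X ↘ Spec (CommRingCat.of k))
  haveI := CurvLib.isNoetherian k (X := X)
  letI := GenusZeroLib.kmod k L
  haveI := CurvLib.finite_HH (k := k) (CurvLib.isCoh_of_isInvertible hL) 0
  haveI : Module.Finite k Γ(L, ⊤) := Module.Finite.equiv (GenusZeroLib.e0k k L)
  have hΓ : 1 ≤ Module.finrank k Γ(L, ⊤) := by rw [← (GenusZeroLib.e0k k L).finrank_eq]; exact h0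
  haveI : Nontrivial Γ(L, ⊤) := Module.nontrivial_of_finrank_pos (R := k) (by omega)
  obtain ⟨σ, hσ⟩ := exists_ne (0 : Γ(L, ⊤))
  obtain ⟨P, hPs, hP⟩ : ∃ P : X, P ∈ (TwistLib.genSet hL σ : Set X)ᶜ ∧ IsClosed ({P} : Set X) := by
    have hne : ((TwistLib.genSet hL σ : Set X)ᶜ).Nonempty := by
      rw [Set.nonempty_iff_ne_empty]
      intro he
      have hg : GenOn L σ := TwistLib.genOn_of_genAt fun y _ => by
        have : y ∈ (TwistLib.genSet hL σ : Set X) := by
          by_contra h
          exact (Set.eq_empty_iff_forall_notMem.1 he) y h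
        exact this
      haveI := AmpleLib.isIso_unitHom σ hg
      have h1 := CurvLib.deg_congr (k := k) (asIso (QCohLib.unitHom L σ)) 1
      have h2 : Curv2.deg k X (Coh.structureModule X) 1 = 0 := by simp [Curv2.deg]
      rw [← h1, h2] at hd
      omega
    obtain ⟨P, h, h'⟩ := (TwistLib.genSet hL σ).2.isClosed_compl.exists_closed_singleton hne
    exact ⟨P, h, h'⟩
  let x := pointOfClosedPoint (X ↘ Spec (CommRingCat.of k)) P hP
  have hx : x ≫ (X ↘ Spec (CommRingCat.of k)) = 𝟙 _ := pointOfClosedPoint_comp _ P hP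
  have hxP : x (IsLocalRing.closedPoint k) = P := pointOfClosedPoint_apply _ P hP _
  haveI : IsDiscreteValuationRing (X.presheaf.stalk P) := HurwitzLib.dvr_stalk_closed (k := k) hdim hP
  have hr : letI : Algebra k (X.residueField P) := Curv2.resAlgebra k X P
      Module.finrank k (X.residueField P) = 1 := by
    have h := GenusZeroLib.finrank_residueField_rational x hx (IsLocalRing.closedPoint k)
    rw [hxP] at h
    exact h
  obtain ⟨hgen, hng⟩ := GenusZeroLib.finrank_h0_tensor_ptIdeal (k := k) hP hdim hr hL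
  obtain ⟨I, ⟨eI⟩, hI, hdI⟩ := GenusZeroLib.exists_idealMod_iso (k := k) hP hdim
  rw [hr] at hdI
  have hIi : PicF.IsInvertible (ClSub.idealMod (GenusZeroLib.ptIdeal hP)) :=
    HilbPolyLib.isInvertible_of_iso eI hI
  have hker : x.ker = GenusZeroLib.ptIdeal hP := by
    rw [SecDivLib.ker_rational x hx]
    congr 1
    exact Closeds.ext (congrArg (fun z : X => ({z} : Set X)) hxP)
  refine ⟨x, hx, CohB1.tensorMod L (ClSub.idealMod (GenusZeroLib.ptIdeal hP)),
    HilbPolyLib.isInvertible_tensor hL hIi, ?_, ?_, ?_⟩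
  · rw [GenusZeroLib.deg_tensor k hdim hL hIi, hd, ← CurvLib.deg_congr (k := k) eI 1, hdI]
    push_cast; ring
  · by_cases hc : ∃ τ : Γ(L, ⊤), GenAt L τ (show P ∈ (⊤ : X.Opens) from trivial)
    · have h2 : 2 ≤ Module.finrank k Γ(L, ⊤) := by
        by_contra h
        obtain ⟨τ, hτ⟩ := hc
        have hf1 : Module.finrank k Γ(L, ⊤) = 1 := by omega
        obtain ⟨c, rfl⟩ := (finrank_eq_one_iff_of_nonzero' σ hσ).1 hf1 τ
        rcases eq_or_ne c 0 with rfl | hc0
        · rw [zero_smul] at hτ
          exact one_ne_zero (hτ.1 (a₁ := (1 : X.presheaf.stalk P)) (a₂ := 0) (by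
            dsimp only; rw [map_zero, smul_zero, smul_zero]))
        · refine hPs (show GenAt L σ (show P ∈ (⊤ : X.Opens) from trivial) from ?_)
          have hu : IsUnit (X.presheaf.germ ⊤ P trivial (GenusZeroLib.ρ k (X := X) c)) :=
            ((isUnit_iff_ne_zero.2 hc0).map (GenusZeroLib.ρ k (X := X))).map _
          have hb : Function.Bijective
              ((fun d : X.presheaf.stalk P => d • L.presheaf.germ ⊤ P trivial σ) ∘
                fun d => d * X.presheaf.germ ⊤ P trivial (GenusZeroLib.ρ k (X := X) c)) := by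
            refine (congrArg Function.Bijective (funext fun d => ?_)).mp hτ
            show d • L.presheaf.germ ⊤ P trivial (GenusZeroLib.ρ k (X := X) c • σ) = _
            rw [AmpleLib.germ_smul, smul_smul]
            rfl
          exact (Function.Bijective.of_comp_iff _ hu.unit.mulRight.bijective).1 hb
      have := hgen hc
      have := (GenusZeroLib.e0k k L).finrank_eq
      omega
    · rw [hng (fun τ hτ => hc ⟨τ, hτ⟩)]
      exact h0
  · rw [cl_tensor, hker]
    rfl

include hdim in
theorem ae_of_deg [ConnectedSpace ↥X] (o : Spec (CommRingCat.of k) ⟶ X)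
    (ho : o ≫ (X ↘ Spec (CommRingCat.of k)) = 𝟙 _) (n : ℕ) :
    ∀ {L : X.Modules}, PicF.IsInvertible L → Curv2.deg k X L 1 = n → 1 ≤ Module.finrank k (Coh.HH X L 0) →
      AE k X (CubeConsLib.cl L * idCls o.ker ^ n) := by
  haveI := FibVALib.geometricallyIntegral_of_geometricallyConnected (X ↘ Spec (CommRingCat.of k))
  haveI : IsIntegral X := GeometricallyIntegral.isIntegral_of_subsingleton (X ↘ Spec (CommRingCat.of k))
  induction n with
  | zero =>
    intro L hL hd h0
    have hnt : Nontrivial (Coh.HH X L 0) := Module.nontrivial_of_finrank_pos (R := k) (by omega)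
    obtain ⟨σ, hσ⟩ := CurvLib.exists_hom_ne_zero hnt
    haveI : IsIso σ := CurvLib.isIso_of_euler_le (k := k) CurvLib.isInvertible_structureModule hL hdim hσ (by
      simp only [Curv2.deg] at hd; omega)
    rw [pow_zero, mul_one, cl_eq_one_iff.2 ⟨(asIso σ).symm⟩]
    exact AE.one
  | succ n ih =>
    intro L hL hd h0
    obtain ⟨x, hx, L', hL', hd', h0', hcl⟩ := exists_step hdim hL (by push_cast at hd; exact hd) h0
    obtain ⟨b, hb⟩ := (isUnit_idCls (isEffCartier_pt hdim x hx)).exists_right_inv
    have h := (ih hL' hd' h0').mul (ae_points hdim x o hx ho hb)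
    rw [hcl, show CubeConsLib.cl L * idCls x.ker * idCls o.ker ^ n * (idCls o.ker * b) =
      CubeConsLib.cl L * idCls o.ker ^ (n + 1) * (idCls x.ker * b) by rw [pow_succ]; ac_rfl, hb, mul_one] at h
    exact h

include hdim in
theorem isAlgEquivZero_of_deg_zero [ConnectedSpace ↥X] {L : X.Modules} (hL : PicF.IsInvertible L)
    (hd : Curv2.deg k X L 1 = 0) : Pic13.IsAlgEquivZero k X L := by
  haveI := FibVALib.geometricallyIntegral_of_geometricallyConnected (X ↘ Spec (CommRingCat.of k))
  haveI : IsIntegral X := GeometricallyIntegral.isIntegral_of_subsingleton (X ↘ Spec (CommRingCat.of k))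
  obtain ⟨o, ho⟩ := GenusZeroLib.exists_rational_point_of_smooth (X ↘ Spec (CommRingCat.of k))
  obtain ⟨N, hN, hoN⟩ := exists_inv_rep (IntMultLib.isInvertible_idealMod _ (isEffCartier_pt hdim o ho))
  have hoI := IntMultLib.isInvertible_idealMod _ (isEffCartier_pt hdim o ho)
  have hdo : Curv2.deg k X (ClSub.idealMod o.ker) 1 = -1 := by
    obtain ⟨P, hP⟩ : ∃ P : X, P = o (IsLocalRing.closedPoint k) := ⟨_, rfl⟩
    have hPc : IsClosed ({P} : Set X) := hP ▸ GenusZeroLib.isClosed_rational o ho _
    haveI : IsDiscreteValuationRing (X.presheaf.stalk P) := HurwitzLib.dvr_stalk_closed (k := k) hdim hPc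
    obtain ⟨I, ⟨eI⟩, hI, hdI⟩ := GenusZeroLib.exists_idealMod_iso (k := k) hPc hdim
    rw [show o.ker = GenusZeroLib.ptIdeal hPc by subst hP; exact SecDivLib.ker_rational o ho,
      ← CurvLib.deg_congr (k := k) eI 1, hdI]
    subst hP
    rw [GenusZeroLib.finrank_residueField_rational o ho]
    rfl
  have hdN : Curv2.deg k X N 1 = 1 := by
    obtain ⟨e⟩ := cl_eq_one_iff.1 ((cl_tensor _ _).trans hoN)
    have h := GenusZeroLib.deg_tensor k hdim hoI hN
    rw [CurvLib.deg_congr (k := k) e 1, hdo] at h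
    have h2 : Curv2.deg k X (Coh.structureModule X) 1 = 0 := by simp [Curv2.deg]
    omega
  have hpow : ∀ m : ℕ, ∃ M : X.Modules, PicF.IsInvertible M ∧ Curv2.deg k X M 1 = m ∧
      CubeConsLib.cl M = CubeConsLib.cl L * CubeConsLib.cl N ^ m := by
    intro m
    induction m with
    | zero => exact ⟨L, hL, hd, by rw [pow_zero, mul_one]⟩
    | succ m ih =>
      obtain ⟨M, hM, hdM, hclM⟩ := ih
      refine ⟨CohB1.tensorMod M N, HilbPolyLib.isInvertible_tensor hM hN, ?_, ?_⟩
      · rw [GenusZeroLib.deg_tensor k hdim hM hN, hdM, hdN]; push_cast; rfl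
      · rw [cl_tensor, hclM, pow_succ, mul_assoc]
  obtain ⟨M, hM, hdM, hclM⟩ := hpow (Module.finrank k (Coh.HH X (Coh.structureModule X) 1))
  have h0 : 1 ≤ Module.finrank k (Coh.HH X (Coh.structureModule X) 0) := by
    letI := GenusZeroLib.kmod k (Coh.structureModule X)
    haveI := CurvLib.finite_HH (k := k) (CurvLib.isCoh_of_isInvertible CurvLib.isInvertible_structureModule) 0
      (M := Coh.structureModule X)
    haveI : Module.Finite k Γ(Coh.structureModule X, ⊤) :=
      Module.Finite.equiv (GenusZeroLib.e0k k (Coh.structureModule X))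
    haveI : Nonempty (⊤ : X.Opens) := ⟨⟨genericPoint X, trivial⟩⟩
    haveI : Nontrivial Γ(Coh.structureModule X, ⊤) := inferInstanceAs (Nontrivial Γ(X, ⊤))
    rw [(GenusZeroLib.e0k k (Coh.structureModule X)).finrank_eq]
    exact Module.finrank_pos
  have h := ae_of_deg hdim o ho _ hM hdM (by
    have e1 := CurvLib.euler_curve (k := k) hdim M
    have e2 := CurvLib.euler_curve (k := k) hdim (Coh.structureModule X)
    simp only [Curv2.deg] at hdM
    omega)
  rw [hclM, mul_assoc, ← mul_pow, mul_comm (CubeConsLib.cl N), show idCls o.ker * CubeConsLib.cl N = 1 from hoN,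
    one_pow, mul_one] at h
  exact ae_iff.1 h

end AlgEquivCurveLib

end
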