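import Groth.Agent.CubeConsLib.IsoCls
import Groth.Agent.CubeConsLib.Transpose
import Groth.Agent.EllLawLib.Cls
import Groth.Agent.SweepSix.GeomConn
import Groth.Agent.GrpFieldLib.Uniq

/-!
# Classes algebraically equivalent to zero form a subgroup
-/

set_option autoImplicit false
set_option linter.style.haveILetI false
set_option linter.unusedSectionVars false
universe u

open CategoryTheory CategoryTheory.Limits AlgebraicGeometry

noncomputable section

namespace AlgEquivCurveLib

open CubeConsLib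

variable (k : Type u) [Field k] (X : Scheme.{u}) [X.Over (Spec (CommRingCat.of k))]

/-- The class of an invertible module algebraically equivalent to zero. -/
def AE (c : IsoCls X) : Prop :=
  ∃ (T : Scheme.{u}) (q : T ⟶ Spec (CommRingCat.of k)), ConnectedSpace T ∧ LocallyOfFiniteType q ∧ QuasiCompact q ∧
    ∃ (M : (Pic13.prodK k X q).Modules), PicF.IsInvertible M ∧
      ∃ (t t₀ : Spec (CommRingCat.of k) ⟶ T) (ht : t ≫ q = 𝟙 _) (ht₀ : t₀ ≫ q = 𝟙 _),
        pull (Pic13.sliceAt k X q t ht) (CubeConsLib.cl M) = c ∧ pull (Pic13.sliceAt k X q t₀ ht₀) (CubeConsLib.cl M) = 1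

variable {k X}

theorem ae_iff {L : X.Modules} : AE k X (CubeConsLib.cl L) ↔ Pic13.IsAlgEquivZero k X L := by
  constructor
  · rintro ⟨T, q, h1, h2, h3, M, hM, t, t₀, ht, ht₀, e, e₀⟩
    exact ⟨T, q, h1, h2, h3, M, hM, t, t₀, ht, ht₀, cl_eq_iff.1 e, cl_eq_one_iff.1 e₀⟩
  · rintro ⟨T, q, h1, h2, h3, M, hM, t, t₀, ht, ht₀, e, e₀⟩
    exact ⟨T, q, h1, h2, h3, M, hM, t, t₀, ht, ht₀, cl_eq_iff.2 e, cl_eq_one_iff.2 e₀⟩

theorem AE.one : AE k X 1 := by
  haveI : ConnectedSpace ↥(Spec (CommRingCat.of k)) := inferInstanceAs (ConnectedSpace (PrimeSpectrum k))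
  exact ⟨Spec (CommRingCat.of k), 𝟙 _, inferInstance, inferInstance, inferInstance, Coh.structureModule _,
    isInvertible_one _, 𝟙 _, 𝟙 _, Category.id_comp _, Category.id_comp _, map_one _, map_one _⟩

variable [IsAlgClosed k]

theorem AE.mul {c c' : IsoCls X} (h : AE k X c) (h' : AE k X c') : AE k X (c * c') := by
  obtain ⟨T, q, h1, h2, h3, M, hM, t, t₀, ht, ht₀, e, e₀⟩ := h
  obtain ⟨T', q', h1', h2', h3', M', hM', t', t₀', ht', ht₀', e', e₀'⟩ := h'
  haveI := SweepSix.GeomConn.gc_of_isAlgClosed q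
  haveI : UniversallyOpen q := Groth.Agent.GrpField.universallyOpen_field q
  haveI : ConnectedSpace ↥(pullback q q') := inferInstance
  let a : Pic13.prodK k X (pullback.fst q q' ≫ q) ⟶ Pic13.prodK k X q :=
    pullback.map _ _ _ _ (𝟙 X) (pullback.fst q q') (𝟙 _) (by simp) (by simp)
  let b : Pic13.prodK k X (pullback.fst q q' ≫ q) ⟶ Pic13.prodK k X q' :=
    pullback.map _ _ _ _ (𝟙 X) (pullback.snd q q') (𝟙 _) (by simp) (by simp [pullback.condition])
  have hl : ∀ (w : Spec (CommRingCat.of k) ⟶ T) (w' : Spec (CommRingCat.of k) ⟶ T') (hw : w ≫ q = 𝟙 _)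
      (hw' : w' ≫ q' = 𝟙 _), pullback.lift w w' (hw.trans hw'.symm) ≫ pullback.fst q q' ≫ q = 𝟙 _ :=
    fun w w' hw hw' => by rw [pullback.lift_fst_assoc, hw]
  have hs : ∀ (w : Spec (CommRingCat.of k) ⟶ T) (w' : Spec (CommRingCat.of k) ⟶ T') (hw : w ≫ q = 𝟙 _)
      (hw' : w' ≫ q' = 𝟙 _),
      pull (Pic13.sliceAt k X (pullback.fst q q' ≫ q) (pullback.lift w w' (hw.trans hw'.symm)) (hl w w' hw hw'))
        (pull a (CubeConsLib.cl M) * pull b (CubeConsLib.cl M')) =
      pull (Pic13.sliceAt k X q w hw) (CubeConsLib.cl M) * pull (Pic13.sliceAt k X q' w' hw') (CubeConsLib.cl M') := by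
    intro w w' hw hw'
    rw [map_mul, pull_comp, pull_comp]
    congr 3 <;> apply pullback.hom_ext <;> simp only [a, b, Pic13.sliceAt, pullback.map, Category.assoc]
    · erw [pullback.lift_fst, pullback.lift_fst_assoc, pullback.lift_fst, Category.id_comp]
    · erw [pullback.lift_snd, pullback.lift_snd_assoc, pullback.lift_snd, Category.assoc, pullback.lift_fst]
    · erw [pullback.lift_fst, pullback.lift_fst_assoc, pullback.lift_fst, Category.id_comp]
    · erw [pullback.lift_snd, pullback.lift_snd_assoc, pullback.lift_snd, Category.assoc, pullback.lift_snd]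
  refine ⟨pullback q q', pullback.fst q q' ≫ q, inferInstance, inferInstance, inferInstance,
    CohB1.tensorMod ((Scheme.Modules.pullback a).obj M) ((Scheme.Modules.pullback b).obj M'),
    HilbPolyLib.isInvertible_tensor (AmpleDevLib.isInvertible_pb _ hM) (AmpleDevLib.isInvertible_pb _ hM'),
    _, _, hl t t' ht ht', hl t₀ t₀' ht₀ ht₀', ?_, ?_⟩
  · rw [cl_tensor]
    exact (hs t t' ht ht').trans (by rw [e, e'])
  · rw [cl_tensor]
    exact (hs t₀ t₀' ht₀ ht₀').trans (by rw [e₀, e₀', _root_.one_mul])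

theorem AE.pow {c : IsoCls X} (h : AE k X c) (n : ℕ) : AE k X (c ^ n) := by
  induction n with
  | zero => rw [pow_zero]; exact AE.one
  | succ n ih => rw [pow_succ]; exact ih.mul h

end AlgEquivCurveLib

end
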